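import Mathlib
import Groth.Prelude
import Groth.Agent.Lib.Helper8.Kos.KRIdeal
import Groth.Agent.Lib.Helper5.LCIL.A

set_option autoImplicit false
set_option linter.style.haveILetI false

universe u

open CategoryTheory CategoryTheory.Limits

attribute [local instance] HasDerivedCategory.standard

namespace Groth.Agent.H8.LCIHom

open Groth.Agent.H8.KosIndep

section map

variable {A B : Type u} [CommRing A] [CommRing B] [Algebra A B] [Module.Flat A B]

/-- **flat base change of Koszul-regular ideals** -/
theorem isKoszulRegularIdeal_map_of_flat (I : Ideal A) (hI : LCI.IsKoszulRegularIdeal I) :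
    LCI.IsKoszulRegularIdeal (I.map (algebraMap A B)) := by
  apply isKoszulRegularIdeal_of_models
  intro 𝔮 h𝔮
  have hIle : I ≤ 𝔮.asIdeal.comap (algebraMap A B) := Ideal.map_le_iff_le_comap.mp h𝔮
  obtain ⟨g, hg, l, hl, hgen⟩ := hI ⟨𝔮.asIdeal.comap (algebraMap A B), inferInstance⟩ hIle
  refine ⟨algebraMap A B g, hg, ?_⟩
  let B' := Localization.Away (algebraMap A B g)
  have hu : IsUnit (algebraMap A B' g) := by
    rw [IsScalarTower.algebraMap_apply A B B']
    exact IsLocalization.Away.algebraMap_isUnit _
  let φ : Localization.Away g →+* B' := IsLocalization.Away.lift (S := Localization.Away g) g hu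
  letI : Algebra (Localization.Away g) B' := φ.toAlgebra
  haveI : IsScalarTower A (Localization.Away g) B' := IsScalarTower.of_algebraMap_eq (fun x => by
    change algebraMap A B' x = φ (algebraMap A (Localization.Away g) x)
    exact (IsLocalization.Away.lift_eq g hu x).symm)
  haveI : Module.Flat B B' := IsLocalization.flat B' (Submonoid.powers (algebraMap A B g))
  haveI : Module.Flat A B' := Module.Flat.trans A B B'
  haveI : Module.Flat (Localization.Away g) B' :=
    (Module.flat_iff_of_isLocalization (Localization.Away g) (Submonoid.powers g) B').mpr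
      inferInstance
  refine ⟨B', inferInstance, inferInstance, inferInstance,
    l.map (algebraMap (Localization.Away g) B'),
    Groth.Agent.H4.KosBC.isKoszulRegularSeq_map l hl, ?_⟩
  rw [Ideal.map_map, ← IsScalarTower.algebraMap_eq,
    IsScalarTower.algebraMap_eq A (Localization.Away g) B', ← Ideal.map_map, hgen,
    Groth.Agent.H8.KosConcat.map_span_mem]

end map

section comap

variable {P C : Type u} [CommRing P] [CommRing C]

/-- the preimage of a Koszul-regular ideal under a surjection with Koszul-regular kernel is
Koszul-regular. -/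
theorem isKoszulRegularIdeal_comap_of_ker (f : P →+* C) (hf : Function.Surjective f)
    (hker : LCI.IsKoszulRegularIdeal (RingHom.ker f)) (J : Ideal C)
    (hJ : LCI.IsKoszulRegularIdeal J) : LCI.IsKoszulRegularIdeal (J.comap f) := by
  intro 𝔮 h𝔮
  have hkerle : RingHom.ker f ≤ J.comap f := by
    rw [RingHom.ker_eq_comap_bot]
    exact Ideal.comap_mono bot_le
  obtain ⟨g, hg, l₁, hl₁, hgen₁⟩ := hker 𝔮 (hkerle.trans h𝔮)
  let Pg := Localization.Away g
  let Cg := Localization.Away (f g)
  let fg : Pg →+* Cg := IsLocalization.Away.map Pg Cg f g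
  have hfg_comp : fg.comp (algebraMap P Pg) = (algebraMap C Cg).comp f :=
    IsLocalization.map_comp _
  have hfg_surj : Function.Surjective fg := by
    haveI : IsLocalization ((Submonoid.powers g).map f) Cg := by
      rw [Submonoid.map_powers]; infer_instance
    exact IsLocalization.map_surjective_of_surjective (M := Submonoid.powers g)
      (S := Pg) (Q := Cg) hf
  have hfg_ker : RingHom.ker fg = Ideal.span {x | x ∈ l₁} := by
    rw [← hgen₁]
    exact IsLocalization.ker_map (M := Submonoid.powers g) (S := Pg) Cg f
      (Submonoid.map_powers f g)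
  have hJg : LCI.IsKoszulRegularIdeal (J.map (algebraMap C Cg)) :=
    Groth.Agent.H5.LCIL.isKoszulRegularIdeal_map_away J hJ (f g) Cg
  have h1 : LCI.IsKoszulRegularIdeal ((J.map (algebraMap C Cg)).comap fg) :=
    isKoszulRegularIdeal_comap_of_seq fg hfg_surj l₁ hl₁ hfg_ker _ hJg
  have h2 : (J.map (algebraMap C Cg)).comap fg = (J.comap f).map (algebraMap P Pg) := by
    have h3 : ((J.comap f).map (algebraMap P Pg)).map fg = J.map (algebraMap C Cg) := by
      rw [Ideal.map_map, hfg_comp, ← Ideal.map_map, Ideal.map_comap_of_surjective f hf]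
    rw [← h3, Ideal.comap_map_of_surjective fg hfg_surj, ← RingHom.ker_eq_comap_bot]
    apply sup_eq_left.mpr
    rw [hfg_ker, ← hgen₁]
    exact Ideal.map_mono hkerle
  rw [h2] at h1
  exact Groth.Agent.H5.LCIL.exists_of_map_away (J.comap f) g Pg h1 𝔮 h𝔮 hg

end comap

section bot

variable {A : Type u} [CommRing A]

theorem isKoszulRegularSeq_nil : LCI.IsKoszulRegularSeq A [] := by
  intro i hi
  change IsZero (((CochainComplex.singleFunctor (ModuleCat.{u} A) 0).obj
    (ModuleCat.of A A)).homology i)
  exact HomologicalComplex.isZero_single_obj_homology (ComplexShape.up ℤ) 0 (ModuleCat.of A A) i hi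

/-- the zero ideal is Koszul-regular. -/
theorem isKoszulRegularIdeal_bot : LCI.IsKoszulRegularIdeal (⊥ : Ideal A) := by
  intro 𝔭 _
  refine ⟨1, fun h => 𝔭.isPrime.ne_top ((Ideal.eq_top_iff_one _).mpr h), [],
    isKoszulRegularSeq_nil, ?_⟩
  rw [Ideal.map_bot]
  simp

end bot

end Groth.Agent.H8.LCIHom
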