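import Mathlib
import Groth.Prelude
import Groth.Agent.Lib.Helper8.LCIHom.KRMap
import Groth.Agent.Lib.Helper5.LCIL.D
import Groth.Agent.H4.KF2

set_option autoImplicit false
set_option linter.style.haveILetI false

universe u

open CategoryTheory CategoryTheory.Limits

attribute [local instance] HasDerivedCategory.standard

namespace Groth.Agent.H8.LCIHom

open Groth.Agent.H8.KosIndep Groth.Agent.H5.LCIL MvPolynomial

section self

variable (R : Type u) [CommRing R]

/-- the identity is a local complete intersection map. -/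
theorem isLCI_self : LCI.IsLCI R R := by
  refine ⟨inferInstance, 0, (MvPolynomial.isEmptyAlgEquiv R (Fin 0)).toAlgHom,
    (MvPolynomial.isEmptyAlgEquiv R (Fin 0)).surjective, ?_⟩
  have h : RingHom.ker ((MvPolynomial.isEmptyAlgEquiv R (Fin 0)).toAlgHom).toRingHom = ⊥ := by
    rw [← RingHom.injective_iff_ker_eq_bot]
    exact (MvPolynomial.isEmptyAlgEquiv R (Fin 0)).injective
  rw [h]
  exact isKoszulRegularIdeal_bot

end self

section target

attribute [local instance] MvPolynomial.algebraMvPolynomial

variable {R S : Type u} [CommRing R] [CommRing S] [Algebra R S] {n : ℕ}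
  (α : MvPolynomial (Fin n) R →ₐ[R] S) (G : MvPolynomial (Fin n) R)
  (Sg : Type u) [CommRing Sg] [Algebra S Sg]
  [IsLocalization.Away (α.toRingHom G) Sg] [Algebra R Sg] [IsScalarTower R S Sg]

include α in
/-- the kernel of the presentation `P[z] → S_g` is Koszul-regular when the kernel of `P → S` is. -/
theorem ker_β'_koszul_of_ker (hα : Function.Surjective α)
    (hK : LCI.IsKoszulRegularIdeal (RingHom.ker α.toRingHom)) :
    LCI.IsKoszulRegularIdeal (RingHom.ker (β' α G Sg)) := by
  have h1 : LCI.IsKoszulRegularIdeal (RingHom.ker (αQ α G Sg)) := by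
    rw [ker_αQ]
    exact isKoszulRegularIdeal_map_away _ hK G _
  have h2 : LCI.IsKoszulRegularIdeal ((RingHom.ker (αQ α G Sg)).comap (ev G).toRingHom) :=
    isKoszulRegularIdeal_comap_aeval (fun _ : Fin 1 => IsLocalization.Away.invSelf G) _ h1
  rw [comap_ev_ker_eq] at h2
  intro 𝔮 h𝔮
  have hG : (C G : MvPolynomial (Fin 1) (MvPolynomial (Fin n) R)) ∉ 𝔮.asIdeal := by
    intro hmem
    obtain ⟨w, hw⟩ := β'_surjective α G Sg hα
      (IsLocalization.Away.invSelf (α.toRingHom G))
    have h3 : (C G : MvPolynomial (Fin 1) (MvPolynomial (Fin n) R)) * w - 1 ∈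
        RingHom.ker (β' α G Sg) := by
      rw [RingHom.mem_ker, map_sub, map_mul, map_one, hw, β'_C]
      exact sub_eq_zero.mpr (IsLocalization.Away.mul_invSelf _)
    have h4 : (1 : MvPolynomial (Fin 1) (MvPolynomial (Fin n) R)) ∈ 𝔮.asIdeal := by
      have h5 := 𝔮.asIdeal.sub_mem (𝔮.asIdeal.mul_mem_right w hmem) (h𝔮 h3)
      simpa using h5
    exact 𝔮.isPrime.ne_top ((Ideal.eq_top_iff_one _).mpr h4)
  exact exists_of_map_away (RingHom.ker (β' α G Sg)) (C G)
    (MvPolynomial (Fin 1) (Localization.Away G)) h2 𝔮 h𝔮 hG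

include α G in
theorem isLCI_away_of_presentation (hα : Function.Surjective α)
    (hK : LCI.IsKoszulRegularIdeal (RingHom.ker α.toRingHom)) : LCI.IsLCI R Sg := by
  let β : MvPolynomial (Fin (1 + n)) R →ₐ[R] Sg := (β'Alg α G Sg).comp (iota R n).toAlgHom
  have hβ : Function.Surjective β := (β'_surjective α G Sg hα).comp (iota R n).surjective
  refine ⟨Algebra.FiniteType.of_surjective β hβ, 1 + n, β, hβ, ?_⟩
  have h1 := ker_β'_koszul_of_ker α G Sg hα hK
  have h2 : RingHom.ker β.toRingHom =
      (RingHom.ker (β' α G Sg)).map ((iota R n).symm.toRingEquiv :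
        MvPolynomial (Fin 1) (MvPolynomial (Fin n) R) →+* MvPolynomial (Fin (1 + n)) R) := by
    ext x
    rw [Ideal.mem_map_iff_of_surjective
      ((iota R n).symm.toRingEquiv :
        MvPolynomial (Fin 1) (MvPolynomial (Fin n) R) →+* MvPolynomial (Fin (1 + n)) R)
      (iota R n).symm.surjective]
    constructor
    · intro hx
      exact ⟨iota R n x, hx, (iota R n).symm_apply_apply x⟩
    · rintro ⟨y, hy, rfl⟩
      change β' α G Sg (iota R n ((iota R n).symm y)) = 0
      rw [(iota R n).apply_symm_apply]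
      exact hy
  rw [h2]
  exact isKoszulRegularIdeal_map_ringEquiv (iota R n).symm.toRingEquiv _ h1

end target

section target'

variable (R S : Type u) [CommRing R] [CommRing S] [Algebra R S]

/-- **localization on the target preserves local complete intersection maps.** -/
theorem isLCI_away_target (g : S) (Sg : Type u) [CommRing Sg] [Algebra S Sg] [Algebra R Sg]
    [IsScalarTower R S Sg] [IsLocalization.Away g Sg] (h : LCI.IsLCI R S) : LCI.IsLCI R Sg := by
  obtain ⟨-, n, α, hα, hK⟩ := h
  obtain ⟨G, hG⟩ := hα g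
  haveI : IsLocalization.Away (α.toRingHom G) Sg := by
    change IsLocalization.Away (α G) Sg
    rw [hG]; infer_instance
  exact isLCI_away_of_presentation α G Sg hα hK

/-- a localization away from an element is a local complete intersection map. -/
theorem isLCI_away (r : R) (R' : Type u) [CommRing R'] [Algebra R R'] [IsLocalization.Away r R'] :
    LCI.IsLCI R R' :=
  isLCI_away_target R R r R' (isLCI_self R)

end target'

section comp

variable (A B C : Type u) [CommRing A] [CommRing B] [CommRing C] [Algebra A B] [Algebra B C]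
  [Algebra A C] [IsScalarTower A B C]

/-- **composition of local complete intersection ring maps.** -/
theorem isLCI_comp (hAB : LCI.IsLCI A B) (hBC : LCI.IsLCI B C) : LCI.IsLCI A C := by
  obtain ⟨-, n, α, hα, hKα⟩ := hAB
  obtain ⟨-, m, β, hβ, hKβ⟩ := hBC
  let αy : MvPolynomial (Fin m) (MvPolynomial (Fin n) A) →ₐ[A] MvPolynomial (Fin m) B :=
    MvPolynomial.mapAlgHom α
  have hαy : Function.Surjective αy := MvPolynomial.map_surjective α.toRingHom hα
  have hkerαy : RingHom.ker αy.toRingHom =
      (RingHom.ker α.toRingHom).map (algebraMap (MvPolynomial (Fin n) A)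
        (MvPolynomial (Fin m) (MvPolynomial (Fin n) A))) :=
    MvPolynomial.ker_map α.toRingHom
  have hK1 : LCI.IsKoszulRegularIdeal (RingHom.ker αy.toRingHom) := by
    rw [hkerαy]
    exact isKoszulRegularIdeal_map_of_flat _ hKα
  let γ₀ : MvPolynomial (Fin m) (MvPolynomial (Fin n) A) →ₐ[A] C :=
    (β.restrictScalars A).comp αy
  have hγ₀ : Function.Surjective γ₀ := hβ.comp hαy
  have hK2 : LCI.IsKoszulRegularIdeal (RingHom.ker γ₀.toRingHom) :=
    isKoszulRegularIdeal_comap_of_ker αy.toRingHom hαy hK1 _ hKβ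
  let e : MvPolynomial (Fin (m + n)) A ≃ₐ[A] MvPolynomial (Fin m) (MvPolynomial (Fin n) A) :=
    (MvPolynomial.renameEquiv A finSumFinEquiv).symm.trans
      (MvPolynomial.sumAlgEquiv A (Fin m) (Fin n))
  let γ : MvPolynomial (Fin (m + n)) A →ₐ[A] C := γ₀.comp e.toAlgHom
  have hγ : Function.Surjective γ := hγ₀.comp e.surjective
  refine ⟨Algebra.FiniteType.of_surjective γ hγ, m + n, γ, hγ, ?_⟩
  have h2 : RingHom.ker γ.toRingHom =
      (RingHom.ker γ₀.toRingHom).map (e.symm.toRingEquiv :
        MvPolynomial (Fin m) (MvPolynomial (Fin n) A) →+* MvPolynomial (Fin (m + n)) A) := by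
    ext x
    rw [Ideal.mem_map_iff_of_surjective
      (e.symm.toRingEquiv :
        MvPolynomial (Fin m) (MvPolynomial (Fin n) A) →+* MvPolynomial (Fin (m + n)) A)
      e.symm.surjective]
    constructor
    · intro hx
      exact ⟨e x, hx, e.symm_apply_apply x⟩
    · rintro ⟨y, hy, rfl⟩
      change γ₀ (e (e.symm y)) = 0
      rw [e.apply_symm_apply]
      exact hy
  rw [h2]
  exact isKoszulRegularIdeal_map_ringEquiv e.symm.toRingEquiv _ hK2

end comp

section baseChange

open TensorProduct

attribute [local instance] MvPolynomial.algebraMvPolynomial Algebra.TensorProduct.rightAlgebra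

variable {A B k : Type u} [CommRing A] [CommRing B] [CommRing k] [Algebra A B] [Algebra A k]
  [Module.Flat A k]

/-- **flat base change of local complete intersection ring maps.** -/
theorem isLCI_baseChange_of_flat (h : LCI.IsLCI A B) : LCI.IsLCI k (B ⊗[A] k) := by
  obtain ⟨-, n, f, hf, hK⟩ := h
  have hfs := Groth.Agent.H4.KF2.fk_surjective (k := k) f hf
  refine ⟨Algebra.FiniteType.of_surjective (Groth.Agent.H4.KF2.fk (k := k) f) hfs, n,
    Groth.Agent.H4.KF2.fk f, hfs, ?_⟩
  rw [Groth.Agent.H4.KF2.ker_fk f hf]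
  haveI : Module.Flat (MvPolynomial (Fin n) A) (MvPolynomial (Fin n) k) :=
    Module.Flat.isBaseChange A (MvPolynomial (Fin n) A) k (MvPolynomial (Fin n) k)
      (Algebra.IsPushout.out (R := A) (S := MvPolynomial (Fin n) A) (R' := k)
        (S' := MvPolynomial (Fin n) k))
  exact isKoszulRegularIdeal_map_of_flat _ hK

end baseChange

end Groth.Agent.H8.LCIHom
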