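import Mathlib
import Groth.Prelude
import Groth.Agent.Lib.Helper8.LCIHom.Ring

set_option autoImplicit false
set_option linter.style.haveILetI false

universe u

open CategoryTheory CategoryTheory.Limits AlgebraicGeometry TensorProduct

attribute [local instance] HasDerivedCategory.standard

namespace Groth.Agent.H8.LCIHom

section equiv

variable {A B B' : Type u} [CommRing A] [CommRing B] [CommRing B'] [Algebra A B] [Algebra A B']

theorem isLCI_of_algEquiv (e : B ≃ₐ[A] B') (h : LCI.IsLCI A B) : LCI.IsLCI A B' := by
  obtain ⟨-, n, f, hf, hK⟩ := h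
  have hs : Function.Surjective (e.toAlgHom.comp f) := e.surjective.comp hf
  refine ⟨Algebra.FiniteType.of_surjective _ hs, n, e.toAlgHom.comp f, hs, ?_⟩
  have : RingHom.ker (e.toAlgHom.comp f).toRingHom = RingHom.ker f.toRingHom := by
    ext x
    change e (f x) = 0 ↔ f x = 0
    exact e.map_eq_zero_iff
  rw [this]
  exact hK

end equiv

section pushout

attribute [local instance] Algebra.TensorProduct.rightAlgebra in
/-- flat base change in pushout form. -/
theorem isLCI_of_isPushout (R S R' S' : Type u) [CommRing R] [CommRing S] [CommRing R']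
    [CommRing S'] [Algebra R S] [Algebra R R'] [Algebra R S'] [Algebra S S'] [Algebra R' S']
    [IsScalarTower R S S'] [IsScalarTower R R' S'] [Algebra.IsPushout R S R' S']
    [Module.Flat R R'] (h : LCI.IsLCI R S) : LCI.IsLCI R' S' := by
  have h1 : LCI.IsLCI R' (S ⊗[R] R') := isLCI_baseChange_of_flat h
  have h2 : LCI.IsLCI R' (R' ⊗[R] S) :=
    isLCI_of_algEquiv (Algebra.TensorProduct.commRight R R' S).symm h1
  haveI : Algebra.IsPushout R R' S S' := Algebra.IsPushout.symm inferInstance
  exact isLCI_of_algEquiv (Algebra.IsPushout.equiv R R' S S') h2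

end pushout

/-- the ring-hom property underlying `LCI.IsLCI`. -/
def IsLCIHom {R S : Type u} [CommRing R] [CommRing S] (f : R →+* S) : Prop :=
  letI : Algebra R S := f.toAlgebra
  LCI.IsLCI R S

lemma isLCIHom_algebraMap_iff {R S : Type u} [CommRing R] [CommRing S] [Algebra R S] :
    IsLCIHom (algebraMap R S) ↔ LCI.IsLCI R S := by
  rw [IsLCIHom, Algebra.algebra_ext (algebraMap R S).toAlgebra ‹Algebra R S› (fun _ => rfl)]

namespace IsLCIHom

lemma stableUnderComposition : RingHom.StableUnderComposition @IsLCIHom := by
  intro R S T _ _ _ f g hf hg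
  letI : Algebra R S := f.toAlgebra
  letI : Algebra S T := g.toAlgebra
  letI : Algebra R T := (g.comp f).toAlgebra
  haveI : IsScalarTower R S T := IsScalarTower.of_algebraMap_eq' rfl
  exact isLCI_comp R S T hf hg

lemma of_bijective {R S : Type u} [CommRing R] [CommRing S] (e : R ≃+* S) :
    IsLCIHom (e : R →+* S) := by
  letI : Algebra R S := (e : R →+* S).toAlgebra
  let e' : R ≃ₐ[R] S := { e with commutes' := fun _ => rfl }
  exact isLCI_of_algEquiv e' (isLCI_self R)

lemma respectsIso : RingHom.RespectsIso @IsLCIHom :=
  stableUnderComposition.respectsIso (fun e => of_bijective e)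

lemma stableUnderCompositionWithLocalizationAway :
    RingHom.StableUnderCompositionWithLocalizationAway @IsLCIHom := by
  constructor
  · intro R S T _ _ _ _ r _ f hf
    have h1 : IsLCIHom (algebraMap R S) := isLCIHom_algebraMap_iff.mpr (isLCI_away R r S)
    exact stableUnderComposition _ _ h1 hf
  · intro R S T _ _ _ _ s _ f hf
    have h1 : IsLCIHom (algebraMap S T) := isLCIHom_algebraMap_iff.mpr (isLCI_away S s T)
    exact stableUnderComposition _ _ hf h1

lemma localizationAwayPreserves : RingHom.LocalizationAwayPreserves @IsLCIHom := by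
  intro R S _ _ f r R' S' _ _ _ _ _ _ hf
  algebraize [f, IsLocalization.Away.map R' S' f r,
    (IsLocalization.Away.map R' S' f r).comp (algebraMap R R')]
  haveI : IsScalarTower R S S' := IsScalarTower.of_algebraMap_eq'
    (IsLocalization.map_comp _)
  haveI : IsLocalization (Algebra.algebraMapSubmonoid S (Submonoid.powers r)) S' := by
    change IsLocalization ((Submonoid.powers r).map f) S'
    rw [Submonoid.map_powers]
    infer_instance
  haveI : Algebra.IsPushout R S R' S' :=
    Algebra.isPushout_of_isLocalization (Submonoid.powers r) R' S S'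
  haveI : Module.Flat R R' := IsLocalization.flat R' (Submonoid.powers r)
  exact isLCI_of_isPushout R S R' S' hf

lemma ofLocalizationSpanTarget : RingHom.OfLocalizationSpanTarget @IsLCIHom := by
  rw [RingHom.ofLocalizationSpanTarget_iff_finite]
  intro R S _ _ f s hs H
  letI : Algebra R S := f.toAlgebra
  classical
  let g : Fin s.card → S := fun j => (s.equivFin.symm j : S)
  have hg : Ideal.span (Set.range g) = ⊤ := by
    convert hs
    ext x
    simp only [Set.mem_range, g, Finset.mem_coe]
    constructor
    · rintro ⟨j, rfl⟩
      exact (s.equivFin.symm j).2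
    · intro hx
      exact ⟨s.equivFin ⟨x, hx⟩, by simp⟩
  refine Groth.Agent.H5.LCIL.isLCI_of_localizations R S s.card g hg fun j => ?_
  have h1 := H ⟨g j, (s.equivFin.symm j).2⟩
  letI : Algebra R (Localization.Away (g j)) :=
    ((algebraMap S (Localization.Away (g j))).comp f).toAlgebra
  have h2 : LCI.IsLCI R (Localization.Away (g j)) := h1
  convert h2 using 1
  exact Algebra.algebra_ext _ _ (fun _ => rfl)

lemma propertyIsLocal : RingHom.PropertyIsLocal @IsLCIHom where
  localizationAwayPreserves := localizationAwayPreserves
  ofLocalizationSpanTarget := ofLocalizationSpanTarget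
  ofLocalizationSpan := ofLocalizationSpanTarget.ofLocalizationSpan
    stableUnderCompositionWithLocalizationAway.left
  StableUnderCompositionWithLocalizationAwayTarget :=
    stableUnderCompositionWithLocalizationAway.right

end IsLCIHom

/-- the morphism property of schemes associated with local complete intersection ring maps. -/
def LCIP : MorphismProperty Scheme.{u} := affineLocally @IsLCIHom

instance : HasRingHomProperty LCIP @IsLCIHom :=
  ⟨IsLCIHom.propertyIsLocal, rfl⟩

end Groth.Agent.H8.LCIHom
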