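import Mathlib
import Groth.Prelude
import Groth.Agent.Lib.Helper8.LCIHom.Local

set_option autoImplicit false
set_option linter.style.haveILetI false

universe u

open CategoryTheory CategoryTheory.Limits AlgebraicGeometry TensorProduct

attribute [local instance] HasDerivedCategory.standard

namespace Groth.Agent.H8.LCIHom

theorem lcip_iff_forall {X S : Scheme.{u}} (f : X ⟶ S) :
    LCIP f ↔
      ∀ (U : X.Opens) (V : S.Opens) (hU : IsAffineOpen U) (hV : IsAffineOpen V)
        (hUV : U ≤ f ⁻¹ᵁ V),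
        letI := (f.appLE V U hUV).hom.toAlgebra
        LCI.IsLCI Γ(S, V) Γ(X, U) := by
  rw [HasRingHomProperty.iff_appLE (P := LCIP)]
  constructor
  · intro h U V hU hV e
    exact h ⟨V, hV⟩ ⟨U, hU⟩ e
  · intro h V U e
    exact h U.1 V.1 U.2 V.2 e

instance : LCIP.{u}.IsStableUnderComposition :=
  HasRingHomProperty.stableUnderComposition IsLCIHom.stableUnderComposition

theorem lcip_comp {X Y Z : Scheme.{u}} (f : X ⟶ Y) (g : Y ⟶ Z) (hf : LCIP f) (hg : LCIP g) :
    LCIP (f ≫ g) :=
  LCIP.comp_mem f g hf hg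

end Groth.Agent.H8.LCIHom
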