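import Mathlib
import Groth.Prelude
import Groth.Agent.Lib.Helper8.LCIHom.Mor
import Groth.Agent.Lib.Helper8.KosDesc.FG

set_option autoImplicit false
set_option linter.style.haveILetI false

universe u

open CategoryTheory CategoryTheory.Limits AlgebraicGeometry TensorProduct MorphismProperty

attribute [local instance] HasDerivedCategory.standard

namespace Groth.Agent.H8.LCIHom

theorem finitePresentation_of_isLCI (A B : Type u) [CommRing A] [CommRing B] [Algebra A B]
    (h : LCI.IsLCI A B) : Algebra.FinitePresentation A B := by
  obtain ⟨-, n, φ, hφ, hK⟩ := h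
  exact Algebra.FinitePresentation.of_surjective hφ
    (Groth.Agent.H8.KosDesc.fg_of_isKoszulRegularIdeal _ hK)

theorem IsLCIHom.finitePresentation {R S : Type u} [CommRing R] [CommRing S] (f : R →+* S)
    (h : IsLCIHom f) : f.FinitePresentation := by
  letI : Algebra R S := f.toAlgebra
  exact finitePresentation_of_isLCI R S h

theorem locallyOfFinitePresentation_of_lcip {X S : Scheme.{u}} (f : X ⟶ S) (h : LCIP f) :
    LocallyOfFinitePresentation f := by
  rw [HasRingHomProperty.iff_appLE (P := LCIP)] at h
  rw [HasRingHomProperty.iff_appLE (P := @LocallyOfFinitePresentation)]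
  intro U V e
  exact IsLCIHom.finitePresentation _ (h U V e)

end Groth.Agent.H8.LCIHom
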