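import Mathlib
import Groth.Prelude
import Groth.Agent.Lib.Helper8.LCIHom.FP
import Groth.Agent.Lib.Helper8.Synt.Main9287
import Groth.Agent.Lib.Helper8.Synt.Kos2
import Groth.Agent.Lib.Helper8.GCI.Smooth
import Groth.Agent.Lib.Helper8.KosBCImm.Ideal

set_option autoImplicit false
set_option linter.style.haveILetI false

universe u

open CategoryTheory CategoryTheory.Limits AlgebraicGeometry TensorProduct MorphismProperty

attribute [local instance] HasDerivedCategory.standard

namespace Groth.Agent.H8.LCIHom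

/-- a surjection with Koszul-regular kernel is an LCI ring map. -/
theorem isLCI_of_surjective_of_ker (C B : Type u) [CommRing C] [CommRing B] [Algebra C B]
    (hs : Function.Surjective (algebraMap C B))
    (hK : LCI.IsKoszulRegularIdeal (RingHom.ker (algebraMap C B))) : LCI.IsLCI C B := by
  let φ : MvPolynomial (Fin 0) C →ₐ[C] B :=
    (Algebra.ofId C B).comp (MvPolynomial.isEmptyAlgEquiv C (Fin 0)).toAlgHom
  have hφ : Function.Surjective φ := hs.comp (MvPolynomial.isEmptyAlgEquiv C (Fin 0)).surjective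
  refine ⟨Algebra.FiniteType.of_surjective φ hφ, 0, φ, hφ, ?_⟩
  have h0 : RingHom.ker ((MvPolynomial.isEmptyAlgEquiv C (Fin 0)).toAlgHom).toRingHom = ⊥ := by
    rw [← RingHom.injective_iff_ker_eq_bot]
    exact (MvPolynomial.isEmptyAlgEquiv C (Fin 0)).injective
  have h1 := isKoszulRegularIdeal_comap_of_ker
    ((MvPolynomial.isEmptyAlgEquiv C (Fin 0)).toAlgHom).toRingHom
    (MvPolynomial.isEmptyAlgEquiv C (Fin 0)).surjective (h0 ▸ isKoszulRegularIdeal_bot) _ hK
  have h2 : RingHom.ker φ.toRingHom = (RingHom.ker (algebraMap C B)).comap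
      ((MvPolynomial.isEmptyAlgEquiv C (Fin 0)).toAlgHom).toRingHom := by
    ext x
    rfl
  rw [h2]
  exact h1

theorem isLCIHom_of_surjective_of_ker {C B : Type u} [CommRing C] [CommRing B] (ψ : C →+* B)
    (hs : Function.Surjective ψ) (hK : LCI.IsKoszulRegularIdeal (RingHom.ker ψ)) :
    IsLCIHom ψ := by
  letI : Algebra C B := ψ.toAlgebra
  exact isLCI_of_surjective_of_ker C B hs hK

theorem isLCIHom_of_smooth {R S : Type u} [CommRing R] [CommRing S] (f : R →+* S)
    (h : f.Smooth) : IsLCIHom f := by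
  letI : Algebra R S := f.toAlgebra
  haveI : Algebra.Smooth R S := h
  have h1 : Synt.IsSyntomic R S := ⟨inferInstance, inferInstance, fun p =>
    Groth.Agent.H8.GCI.isLCIOver_of_smooth (p.asIdeal.Fiber S)⟩
  exact ((Groth.Agent.H8.Synt.isSyntomic_iff R S).1 h1).2

theorem lcip_of_smooth {X S : Scheme.{u}} (f : X ⟶ S) [Smooth f] : LCIP f := by
  rw [HasRingHomProperty.iff_appLE (P := LCIP)]
  intro U V e
  exact isLCIHom_of_smooth _ (HasRingHomProperty.appLE (P := @Smooth) f inferInstance U V e)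

/-- a Koszul-regular immersion is an LCI morphism. -/
theorem lcip_of_isRegularImmersion {Z X : Scheme.{u}} (i : Z ⟶ X)
    (hi : RegImm.IsRegularImmersion .koszul i) : LCIP i := by
  rw [HasRingHomProperty.iff_exists_appLE (P := LCIP)
    IsLCIHom.stableUnderCompositionWithLocalizationAway.left]
  intro z
  obtain ⟨W, hzW, hcl, -⟩ := hi.2 z
  obtain ⟨hWa, hsurj⟩ :=
    Groth.Agent.H1.RegImmersion.affine_and_surjective_of_isClosedImmersion_restrict i W.1 W.2
  refine ⟨W, ⟨i ⁻¹ᵁ W.1, hWa⟩, hzW, le_rfl, ?_⟩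
  have h1 : i.appLE W.1 (i ⁻¹ᵁ W.1) le_rfl = i.app W.1 := Scheme.Hom.appLE_eq_app ..
  rw [h1]
  exact isLCIHom_of_surjective_of_ker _ hsurj
    (Groth.Agent.H8.KosBCImm.isKoszulRegularIdeal_ker i hi W.1 W.2 hcl)

/-- **factorisation form ⇒ affine-local form.** -/
theorem lcip_of_forall_isKoszulAt {X S : Scheme.{u}} (f : X ⟶ S)
    (h : ∀ x : X, Synt.IsKoszulAt f x) : LCIP f := by
  choose U P i π hxU hft hreg hsm hcomm using h
  rw [IsZariskiLocalAtSource.iff_of_iSup_eq_top (P := LCIP) U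
    (top_le_iff.mp fun x _ => TopologicalSpace.Opens.mem_iSup.mpr ⟨x, hxU x⟩)]
  intro x
  rw [← hcomm x]
  haveI := hsm x
  exact lcip_comp _ _ (lcip_of_isRegularImmersion _ (hreg x)) (lcip_of_smooth _)

end Groth.Agent.H8.LCIHom
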