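import Mathlib
import Groth.Prelude
import Groth.Agent.Lib.Helper8.LCIHom.KAt

set_option autoImplicit false
set_option linter.style.haveILetI false

universe u

open CategoryTheory CategoryTheory.Limits AlgebraicGeometry TensorProduct MorphismProperty

attribute [local instance] HasDerivedCategory.standard

namespace Groth.Agent.H8.LCIHom

/-- `Spec` of a surjection with Koszul-regular kernel is a Koszul-regular immersion. -/
theorem isRegularImmersion_Spec_of_ker {A B : CommRingCat.{u}} (φ : A ⟶ B)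
    (hs : Function.Surjective φ.hom) (hK : LCI.IsKoszulRegularIdeal (RingHom.ker φ.hom)) :
    RegImm.IsRegularImmersion .koszul (Spec.map φ) := by
  haveI hci : IsClosedImmersion (Spec.map φ) := IsClosedImmersion.spec_of_surjective φ hs
  refine ⟨inferInstance, fun z => ?_⟩
  let e : A ≃+* Γ(Spec A, ⊤) := (Scheme.ΓSpecIso A).symm.commRingCatIsoToRingEquiv
  have hcl : IsClosedImmersion (Spec.map φ ∣_ (⊤ : (Spec A).Opens)) :=
    IsZariskiLocalAtTarget.restrict (P := @IsClosedImmersion) hci _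
  refine Groth.Agent.H8.KosBCImm.isRegularImmersionAt_of_isKoszulRegularIdeal (Spec.map φ) ⊤
    (isAffineOpen_top _) hcl ?_ z trivial
  have hnat := Scheme.ΓSpecIso_naturality φ
  have hinj : Function.Injective (Scheme.ΓSpecIso B).hom.hom :=
    (ConcreteCategory.bijective_of_isIso (Scheme.ΓSpecIso B).hom).1
  have h1 : ∀ a, (Scheme.ΓSpecIso B).hom.hom (((Spec.map φ).app ⊤).hom a) =
      φ.hom ((Scheme.ΓSpecIso A).hom.hom a) := fun a => congrArg (fun ψ => ψ.hom a) hnat
  have h3 : ∀ b : A, e b = (Scheme.ΓSpecIso A).inv.hom b := fun b => rfl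
  have h4 : ∀ a, e ((Scheme.ΓSpecIso A).hom.hom a) = a := by
    intro a
    rw [h3]
    exact congrArg (fun ψ => ψ.hom a) (Scheme.ΓSpecIso A).hom_inv_id
  have hker : RingHom.ker ((Spec.map φ).app ⊤).hom = (RingHom.ker φ.hom).map (e : A →+* _) := by
    ext a
    constructor
    · intro ha
      have ha' : ((Spec.map φ).app ⊤).hom a = 0 := ha
      have h5 : φ.hom ((Scheme.ΓSpecIso A).hom.hom a) = 0 := by
        rw [← h1, ha']
        exact map_zero _
      rw [← h4 a]
      exact Ideal.mem_map_of_mem _ h5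
    · intro ha
      change ((Spec.map φ).app ⊤).hom a = 0
      apply hinj
      rw [h1]
      refine Eq.trans ?_ (map_zero _).symm
      have h6 : (Scheme.ΓSpecIso A).hom.hom a = e.symm a := by
        rw [← h4 a, RingEquiv.symm_apply_apply, h4]
      rw [h6]
      have := Ideal.symm_apply_mem_of_equiv_iff.mpr ha
      exact this
  rw [hker]
  exact Groth.Agent.H8.KosIndep.isKoszulRegularIdeal_map_ringEquiv e _ hK

/-- **affine-local form ⇒ factorisation form.** -/
theorem isKoszulAt_of_lcip {X S : Scheme.{u}} (f : X ⟶ S) (h : LCIP f) (x : X) :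
    Synt.IsKoszulAt f x := by
  obtain ⟨V, hV, hfx, -⟩ :=
    exists_isAffineOpen_mem_and_subset (X := S) (x := f x) (U := ⊤) trivial
  obtain ⟨U, hU, hx, hUV⟩ :=
    exists_isAffineOpen_mem_and_subset (X := X) (x := x) (U := f ⁻¹ᵁ V) hfx
  have hlci := (lcip_iff_forall f).1 h U V hU hV hUV
  letI alg : Algebra Γ(S, V) Γ(X, U) := (f.appLE V U hUV).hom.toAlgebra
  obtain ⟨-, n, φ, hφ, hK⟩ := hlci
  let φ' : CommRingCat.of (MvPolynomial (Fin n) Γ(S, V)) ⟶ Γ(X, U) :=
    CommRingCat.ofHom φ.toRingHom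
  let ι' : Γ(S, V) ⟶ CommRingCat.of (MvPolynomial (Fin n) Γ(S, V)) :=
    CommRingCat.ofHom (algebraMap Γ(S, V) (MvPolynomial (Fin n) Γ(S, V)))
  let i : (U : Scheme.{u}) ⟶ Spec (CommRingCat.of (MvPolynomial (Fin n) Γ(S, V))) :=
    hU.isoSpec.hom ≫ Spec.map φ'
  let π : Spec (CommRingCat.of (MvPolynomial (Fin n) Γ(S, V))) ⟶ S :=
    Spec.map ι' ≫ hV.fromSpec
  have hcompr : ι' ≫ φ' = f.appLE V U hUV := by
    ext a
    exact φ.commutes a
  have hcomm : i ≫ π = U.ι ≫ f := by
    calc i ≫ π = hU.isoSpec.hom ≫ (Spec.map φ' ≫ Spec.map ι') ≫ hV.fromSpec := by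
          simp only [i, π, Category.assoc]
      _ = hU.isoSpec.hom ≫ Spec.map (f.appLE V U hUV) ≫ hV.fromSpec := by
          rw [← Spec.map_comp, hcompr]
      _ = hU.isoSpec.hom ≫ hU.fromSpec ≫ f := by
          rw [IsAffineOpen.SpecMap_appLE_fromSpec f hV hU hUV]
      _ = U.ι ≫ f := by
          rw [← Category.assoc, hU.isoSpec_hom_fromSpec]
  have hsm0 : Smooth (Spec.map ι') := by
    rw [HasRingHomProperty.Spec_iff (P := @Smooth)]
    exact RingHom.smooth_algebraMap.mpr
      (⟨inferInstance, inferInstance⟩ :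
        Algebra.Smooth Γ(S, V) (MvPolynomial (Fin n) Γ(S, V)))
  have hsm : Smooth π := inferInstance
  have hreg : RegImm.IsRegularImmersion .koszul i :=
    Groth.Agent.H8.SyntLocal.isRegularImmersion_iso_comp .koszul hU.isoSpec.hom _
      (isRegularImmersion_Spec_of_ker φ' hφ hK)
  have hci : IsClosedImmersion (Spec.map φ') := IsClosedImmersion.spec_of_surjective φ' hφ
  have hft : LocallyOfFiniteType (U.ι ≫ f) := by
    rw [← hcomm]
    infer_instance
  exact ⟨U, _, i, π, hx, hft, hreg, hsm, hcomm⟩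

theorem lcip_iff_forall_isKoszulAt {X S : Scheme.{u}} (f : X ⟶ S) :
    LCIP f ↔ ∀ x : X, Synt.IsKoszulAt f x :=
  ⟨isKoszulAt_of_lcip f, lcip_of_forall_isKoszulAt f⟩

end Groth.Agent.H8.LCIHom
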