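import Mathlib
import Groth.Prelude
import Groth.Agent.Lib.Helper8.LCIHom.Mor
import Groth.Agent.Lib.Helper8.SyntDesc.Desc

set_option autoImplicit false
set_option linter.style.haveILetI false

universe u

open CategoryTheory CategoryTheory.Limits AlgebraicGeometry TensorProduct MorphismProperty

attribute [local instance] HasDerivedCategory.standard

namespace Groth.Agent.H8.LCIHom

section general

variable (P P' : MorphismProperty Scheme.{u})

/-- properties local at the target are stable under base change along local isomorphisms. -/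
lemma pullback_fst_of_isLocalIso [IsZariskiLocalAtTarget P] {T X W : Scheme.{u}} (p : T ⟶ X)
    [IsLocalIso p] (h : W ⟶ X) (hP : P h) : P (pullback.fst p h) := by
  apply IsZariskiLocalAtTarget.of_forall_exists_morphismRestrict
  intro t
  obtain ⟨U, htU, hU⟩ := IsLocalIso.exists_isOpenImmersion (f := p) t
  refine ⟨U, htU, ?_⟩
  have h1 := (isPullback_morphismRestrict (pullback.fst p h) U).flip
  have h2 := (IsPullback.of_hasPullback p h).flip
  exact IsZariskiLocalAtTarget.of_isPullback (h1.paste_horiz h2) hP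

variable [P'.IsStableUnderBaseChange] [P'.IsStableUnderComposition]
variable (H₁ : (@IsLocalIso ⊓ @Surjective : MorphismProperty Scheme) ≤ P')

include H₁ in
/-- variant of `IsZariskiLocalAtTarget.descendsAlong_inf_quasiCompact` not assuming `P` stable
under base change. -/
lemma descendsAlong_inf_quasiCompact' [IsZariskiLocalAtTarget P]
    (H : ∀ {R S : CommRingCat.{u}} {Y : Scheme.{u}} (φ : R ⟶ S) (g : Y ⟶ Spec R),
      P' (Spec.map φ) → P (pullback.fst (Spec.map φ) g) → P g) :
    P.DescendsAlong (P' ⊓ @QuasiCompact) := by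
  apply IsZariskiLocalAtTarget.descendsAlong
  intro R X Y f g hf h
  wlog hX : ∃ T, X = Spec T generalizing X
  · have _ : CompactSpace X := by simpa [← quasiCompact_iff_compactSpace f] using hf.2
    obtain ⟨Y, p, hsurj, hP', hY⟩ := X.exists_hom_isAffine_of_isZariskiLocalAtSource @IsLocalIso
    refine this (f := (Y.isoSpec.inv ≫ p) ≫ f) ?_ ?_ ⟨_, rfl⟩
    · rw [Category.assoc, (P' ⊓ @QuasiCompact).cancel_left_of_respectsIso]
      exact ⟨P'.comp_mem _ _ (H₁ _ ⟨hP', hsurj⟩) hf.1, inferInstance⟩
    · rw [← pullbackRightPullbackFstIso_inv_fst f g _, P.cancel_left_of_respectsIso]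
      haveI : IsLocalIso (Y.isoSpec.inv ≫ p) :=
        MorphismProperty.comp_mem (W := @IsLocalIso) _ _
          ⟨fun x => ⟨⊤, trivial, inferInstance⟩⟩ hP'
      exact pullback_fst_of_isLocalIso P _ _ h
  obtain ⟨T, rfl⟩ := hX
  obtain ⟨φ, rfl⟩ := Spec.map_surjective f
  exact H φ g hf.1 h

variable (Q Q' : ∀ {R S : Type u} [CommRing R] [CommRing S], (R →+* S) → Prop)
variable (H₂ : ∀ {R S : CommRingCat.{u}} {f : R ⟶ S}, P' (Spec.map f) → Q' f.hom)

include H₁ H₂ in
/-- variant of `HasRingHomProperty.descendsAlong` not assuming `P` stable under base change. -/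
lemma hasRingHomProperty_descendsAlong' [HasRingHomProperty P Q]
    (hQQ' : RingHom.CodescendsAlong Q Q') :
    P.DescendsAlong (P' ⊓ @QuasiCompact) := by
  apply descendsAlong_inf_quasiCompact' _ _ H₁
  introv h hf
  wlog hY : ∃ S, Y = Spec S generalizing Y
  · rw [IsZariskiLocalAtSource.iff_of_openCover (P := P) Y.affineCover]
    intro i
    have heq : pullback.fst (Spec.map φ) (Y.affineCover.f i ≫ g) =
        pullback.map _ _ _ _ (𝟙 _) (Y.affineCover.f i) (𝟙 _) (by simp) (by simp) ≫
          pullback.fst (Spec.map φ) g := (pullback.lift_fst _ _ _).symm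
    exact this _ (heq ▸ AlgebraicGeometry.IsZariskiLocalAtSource.comp hf _) ⟨_, rfl⟩
  obtain ⟨S, rfl⟩ := hY
  apply of_pullback_fst_Spec_of_codescendsAlong _ _ hQQ' H₂ _ h hf
  simp [HasRingHomProperty.Spec_iff (P := P)]

lemma hasRingHomProperty_descendsAlong_flat' {P : MorphismProperty Scheme.{u}}
    {Q : ∀ {R S : Type u} [CommRing R] [CommRing S], (R →+* S) → Prop}
    [HasRingHomProperty P Q] (h : RingHom.CodescendsAlong Q RingHom.FaithfullyFlat) :
    P.DescendsAlong (@Surjective ⊓ @Flat ⊓ @QuasiCompact) := by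
  refine hasRingHomProperty_descendsAlong' _ _ ?_ _ _ ?_ h
  · rw [inf_comm]
    gcongr
    exact IsLocalIso.le_of_isZariskiLocalAtSource @Flat
  · intro R S f ⟨hf₁, hf₂⟩
    rw [RingHom.FaithfullyFlat.iff_flat_and_comap_surjective]
    refine ⟨?_, (Spec.map f).surjective⟩
    rwa [HasRingHomProperty.Spec_iff (P := @Flat)] at hf₂

end general

section lci

attribute [local instance] Algebra.TensorProduct.rightAlgebra in
/-- LCI ring maps codescend along faithfully flat ring maps. -/
theorem codescendsAlong_faithfullyFlat :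
    RingHom.CodescendsAlong @IsLCIHom RingHom.FaithfullyFlat := by
  refine .mk _ IsLCIHom.respectsIso fun R S T _ _ _ _ _ h h' => ?_
  rw [isLCIHom_algebraMap_iff] at h' ⊢
  rw [RingHom.faithfullyFlat_algebraMap_iff] at h
  exact Groth.Agent.H8.SyntDesc.isLCI_of_faithfullyFlat R S T h'

instance : MorphismProperty.DescendsAlong LCIP.{u} (@Surjective ⊓ @Flat ⊓ @QuasiCompact) :=
  hasRingHomProperty_descendsAlong_flat' codescendsAlong_faithfullyFlat

/-- **fpqc descent of LCI morphisms** -/
theorem lcip_of_isPullback {X S X' S' : Scheme.{u}} (f : X ⟶ S) (f' : X' ⟶ S') (g' : X' ⟶ X)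
    (g : S' ⟶ S) [Flat g] [Surjective g] [QuasiCompact g] (hc : IsPullback g' f' f g)
    (h : LCIP f') : LCIP f :=
  MorphismProperty.of_isPullback_of_descendsAlong
    (Q := @Surjective ⊓ @Flat ⊓ @QuasiCompact) hc.flip
    ⟨⟨inferInstance, inferInstance⟩, inferInstance⟩ h

end lci

end Groth.Agent.H8.LCIHom
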