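import Mathlib
import Groth.Prelude
import Groth.Agent.Lib.Helper8.LCIHom.KAt2
import Groth.Agent.Lib.Helper1.RegImmersion
import Groth.Agent.S8905

set_option autoImplicit false
set_option linter.style.haveILetI false

universe u

open CategoryTheory CategoryTheory.Limits AlgebraicGeometry

attribute [local instance] HasDerivedCategory.standard

namespace Groth.Agent.H8.LCIHom

/-- sections over an affine open of a scheme with regular stalks form a regular ring. -/
theorem isRegularRing_of_stalks {X : Scheme.{u}} (U : X.Opens) (hU : IsAffineOpen U)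
    [IsNoetherianRing Γ(X, U)]
    (h : ∀ x : X, x ∈ U → IsRegularLocalRing (X.presheaf.stalk x)) : IsRegularRing Γ(X, U) := by
  rw [isRegularRing_iff]
  intro p hp
  have hy : hU.fromSpec ⟨p, hp⟩ ∈ U := by
    have : hU.fromSpec ⟨p, hp⟩ ∈ Set.range hU.fromSpec := ⟨_, rfl⟩
    rwa [hU.range_fromSpec] at this
  haveI := h _ hy
  letI := TopCat.Presheaf.algebra_section_stalk X.presheaf ⟨hU.fromSpec ⟨p, hp⟩, hy⟩
  haveI : IsLocalization.AtPrime (X.presheaf.stalk (hU.fromSpec ⟨p, hp⟩)) p :=
    hU.isLocalization_stalk' ⟨p, hp⟩ hy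
  exact IsRegularLocalRing.of_ringEquiv
    (IsLocalization.algEquiv p.primeCompl (X.presheaf.stalk (hU.fromSpec ⟨p, hp⟩))
      (Localization.AtPrime p)).toRingEquiv

/-- stalks of a scheme at points of an affine open with regular coordinate ring are regular. -/
theorem isRegularLocalRing_stalk_of_isRegularRing {X : Scheme.{u}} (U : X.Opens)
    (hU : IsAffineOpen U) [IsRegularRing Γ(X, U)] (x : X) (hx : x ∈ U) :
    IsRegularLocalRing (X.presheaf.stalk x) := by
  letI := TopCat.Presheaf.algebra_section_stalk X.presheaf ⟨x, hx⟩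
  haveI : IsLocalization.AtPrime (X.presheaf.stalk x) (hU.primeIdealOf ⟨x, hx⟩).asIdeal :=
    hU.isLocalization_stalk ⟨x, hx⟩
  exact IsRegularLocalRing.of_ringEquiv
    (IsLocalization.algEquiv (hU.primeIdealOf ⟨x, hx⟩).asIdeal.primeCompl
      (Localization.AtPrime (hU.primeIdealOf ⟨x, hx⟩).asIdeal) (X.presheaf.stalk x)).toRingEquiv

theorem isRegularLocalRing_stalk_Spec (R : CommRingCat.{u}) [IsRegularRing R] (x : Spec R) :
    IsRegularLocalRing ((Spec R).presheaf.stalk x) := by
  haveI : IsRegularRing Γ(Spec R, ⊤) :=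
    IsRegularRing.of_ringEquiv (Scheme.ΓSpecIso R).symm.commRingCatIsoToRingEquiv
  exact isRegularLocalRing_stalk_of_isRegularRing ⊤ (isAffineOpen_top _) x trivial

/-- **a morphism locally of finite type between regular schemes is LCI.** -/
theorem lcip_of_regular {X Y : Scheme.{u}} (f : X ⟶ Y) [LocallyOfFiniteType f]
    [IsLocallyNoetherian X] [IsLocallyNoetherian Y]
    (hX : ∀ x : X, IsRegularLocalRing (X.presheaf.stalk x))
    (hY : ∀ y : Y, IsRegularLocalRing (Y.presheaf.stalk y)) : LCIP f := by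
  have key : ∀ x : X, ∃ U : X.Opens, x ∈ U ∧ LCIP (U.ι ≫ f) := by
    intro x
    obtain ⟨V, hV, hfx, -⟩ :=
      exists_isAffineOpen_mem_and_subset (X := Y) (x := f x) (U := ⊤) trivial
    obtain ⟨U, hU, hx, hUV⟩ :=
      exists_isAffineOpen_mem_and_subset (X := X) (x := x) (U := f ⁻¹ᵁ V) hfx
    refine ⟨U, hx, ?_⟩
    have hft : (f.appLE V U hUV).hom.FiniteType :=
      HasRingHomProperty.appLE (P := @LocallyOfFiniteType) f inferInstance ⟨V, hV⟩ ⟨U, hU⟩ hUV
    letI alg : Algebra Γ(Y, V) Γ(X, U) := (f.appLE V U hUV).hom.toAlgebra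
    have hft' : Algebra.FiniteType Γ(Y, V) Γ(X, U) := hft
    obtain ⟨n, φ, hφ⟩ := Algebra.FiniteType.iff_quotient_mvPolynomial''.mp hft'
    haveI : IsNoetherianRing Γ(Y, V) := IsLocallyNoetherian.component_noetherian ⟨V, hV⟩
    haveI : IsRegularRing Γ(Y, V) := isRegularRing_of_stalks V hV (fun y _ => hY y)
    haveI : IsRegularRing (CommRingCat.of (MvPolynomial (Fin n) Γ(Y, V))) :=
      inferInstanceAs (IsRegularRing (MvPolynomial (Fin n) Γ(Y, V)))
    let φ' : CommRingCat.of (MvPolynomial (Fin n) Γ(Y, V)) ⟶ Γ(X, U) :=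
      CommRingCat.ofHom φ.toRingHom
    let ι' : Γ(Y, V) ⟶ CommRingCat.of (MvPolynomial (Fin n) Γ(Y, V)) :=
      CommRingCat.ofHom (algebraMap Γ(Y, V) (MvPolynomial (Fin n) Γ(Y, V)))
    let i : (U : Scheme.{u}) ⟶ Spec (CommRingCat.of (MvPolynomial (Fin n) Γ(Y, V))) :=
      hU.isoSpec.hom ≫ Spec.map φ'
    let π : Spec (CommRingCat.of (MvPolynomial (Fin n) Γ(Y, V))) ⟶ Y :=
      Spec.map ι' ≫ hV.fromSpec
    have hcompr : ι' ≫ φ' = f.appLE V U hUV := by
      ext a
      exact φ.commutes a
    have hcomm : i ≫ π = U.ι ≫ f := by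
      calc i ≫ π = hU.isoSpec.hom ≫ (Spec.map φ' ≫ Spec.map ι') ≫ hV.fromSpec := by
            simp only [i, π, Category.assoc]
        _ = hU.isoSpec.hom ≫ Spec.map (f.appLE V U hUV) ≫ hV.fromSpec := by
            rw [← Spec.map_comp, hcompr]
        _ = hU.isoSpec.hom ≫ hU.fromSpec ≫ f := by
            rw [IsAffineOpen.SpecMap_appLE_fromSpec f hV hU hUV]
        _ = U.ι ≫ f := by
            rw [← Category.assoc, hU.isoSpec_hom_fromSpec]
    have hsm0 : Smooth (Spec.map ι') := by
      rw [HasRingHomProperty.Spec_iff (P := @Smooth)]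
      exact RingHom.smooth_algebraMap.mpr
        (⟨inferInstance, inferInstance⟩ :
          Algebra.Smooth Γ(Y, V) (MvPolynomial (Fin n) Γ(Y, V)))
    have hsm : Smooth π := inferInstance
    have hci : IsClosedImmersion (Spec.map φ') := IsClosedImmersion.spec_of_surjective φ' hφ
    haveI : IsImmersion i := inferInstance
    have hreg : RegImm.IsRegularImmersion .regular i :=
      Groth.Agent.H1.RegImmersion.isRegularImmersion_of_regular i
        (isRegularLocalRing_stalk_Spec _)
        (fun z => by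
          haveI := hX z.1
          exact IsRegularLocalRing.of_ringEquiv (R := X.presheaf.stalk z.1)
            (U.stalkIso z).symm.commRingCatIsoToRingEquiv)
    have hkos : RegImm.IsRegularImmersion .koszul i := (Groth.Agent.S8905.result i).1 hreg
    rw [← hcomm]
    exact lcip_comp _ _ (lcip_of_isRegularImmersion i hkos) (lcip_of_smooth π)
  choose U hxU hU using key
  rw [IsZariskiLocalAtSource.iff_of_iSup_eq_top (P := LCIP) U
    (top_le_iff.mp fun x _ => TopologicalSpace.Opens.mem_iSup.mpr ⟨x, hxU x⟩)]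
  exact hU

end Groth.Agent.H8.LCIHom
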